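import Groth.Agent.FlatLiftLib.Split
import Groth.Agent.HopfDescLib.Lift
import Groth.Agent.QIsoLib.Henselian
import Mathlib.RingTheory.Artinian.Ring

set_option autoImplicit false

/-!
Flat groups with quasi-isotrivial reduction along a nilpotent ideal.
-/

noncomputable section

universe u

open scoped TensorProduct
open Groth.Agent.TorusField Groth.Agent.DiagHopf

namespace Groth.Agent.FlatLift

variable {R : Type u} [CommRing R] {A : Type u} [CommRing A] [HopfAlgebra R A] [Module.Flat R A]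

theorem isQuasiIsotrivial_of_flat {I : Ideal R} (hI : IsNilpotent I)
    (h0 : SGA3b.IsQuasiIsotrivial (R ⧸ I) ((R ⧸ I) ⊗[R] A)) : SGA3b.IsQuasiIsotrivial R A := by
  have hI' : ∀ x ∈ I, IsNilpotent x := fun x hx => by
    obtain ⟨n, hn⟩ := hI
    exact ⟨n, (Submodule.mem_bot R).1 ((Ideal.zero_eq_bot (R := R)) ▸ hn ▸ Ideal.pow_mem_pow hx n)⟩
  obtain ⟨s₀, hs₀, H⟩ := h0
  refine ⟨Ideal.Quotient.mk I ⁻¹' s₀, ?_, fun f hf => ?_⟩
  · have h1 : (1 : R ⧸ I) ∈ Ideal.span (Ideal.Quotient.mk I '' (Ideal.Quotient.mk I ⁻¹' s₀)) := by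
      rw [Set.image_preimage_eq _ Ideal.Quotient.mk_surjective, hs₀]; trivial
    rw [← Ideal.map_span] at h1
    obtain ⟨y, hy, hy1⟩ := (Ideal.mem_map_iff_of_surjective _ Ideal.Quotient.mk_surjective).1 h1
    have hu : IsUnit y := by
      have h0 : Ideal.Quotient.mk I (y - 1) = 0 := by rw [map_sub, hy1, map_one, sub_self]
      have := (hI' _ (Ideal.Quotient.eq_zero_iff_mem.1 h0)).isUnit_add_one
      rwa [sub_add_cancel] at this
    exact Ideal.eq_top_of_isUnit_mem _ hy hu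
  obtain ⟨T, _, _, _, _, N, _, het, hff, ⟨E₀⟩⟩ := HopfDesc.exists_local_lift hI' f (H _ hf)
  obtain ⟨E₁⟩ := exists_split_transfer E₀
  obtain ⟨E₂⟩ := exists_split_lift hI (HopfDesc.red I T) (HopfDesc.red_surjective T)
    (Ideal.ext fun x => HopfDesc.red_eq_zero_iff x) E₁
  obtain ⟨E₃⟩ := exists_split_transfer' (R' := Localization.Away f) E₂
  have hd : SGA3b.IsDiag T (T ⊗[Localization.Away f] (Localization.Away f ⊗[R] A)) :=
    ⟨N, inferInstance, exists_bialgEquiv E₃⟩
  exact ⟨T, inferInstance, inferInstance, het, hff, hd⟩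

omit [Module.Flat R A] in
theorem isMultType_of_isQuasiIsotrivial (h : SGA3b.IsQuasiIsotrivial R A) : SGA3b.IsMultType R A := by
  obtain ⟨s, hs, H⟩ := h
  refine ⟨s, hs, fun f hf => ?_⟩
  obtain ⟨S, i1, i2, -, hff, hd⟩ := H f hf
  exact ⟨S, i1, i2, hff, hd⟩

theorem isIsotrivial_of_isArtinian [IsArtinianRing R] [IsLocalRing R] (hft : Algebra.FiniteType R A)
    (h0 : SGA3b.IsMultType (IsLocalRing.ResidueField R) (IsLocalRing.ResidueField R ⊗[R] A)) :
    SGA3b.IsMultType R A ∧ SGA3b.IsIsotrivial R A := by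
  haveI := hft
  have hI : IsNilpotent (IsLocalRing.maximalIdeal R) := by
    rw [← IsLocalRing.jacobson_eq_maximalIdeal (⊥ : Ideal R) bot_ne_top]
    exact IsArtinianRing.isNilpotent_jacobson_bot
  have hft' : Algebra.FiniteType (IsLocalRing.ResidueField R) (IsLocalRing.ResidueField R ⊗[R] A) := inferInstance
  have hq := isQuasiIsotrivial_of_flat hI (Groth.Agent.QIso.isQuasiIsotrivial_of_finiteType hft' h0)
  have hm := isMultType_of_isQuasiIsotrivial hq
  haveI : HenselianRing R (IsLocalRing.maximalIdeal R) := Groth.Agent.QIso.henselianRing_of_nil fun x hx => by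
    obtain ⟨n, hn⟩ := hI
    exact ⟨n, (Submodule.mem_bot R).1 ((Ideal.zero_eq_bot (R := R)) ▸ hn ▸ Ideal.pow_mem_pow hx n)⟩
  haveI : HenselianLocalRing R := HenselianLocalRing.mk fun f hf a h1 h2 =>
    HenselianRing.is_henselian f hf a h1 (h2.map _)
  exact ⟨hm, Groth.Agent.QIso.isIsotrivial_of_henselian hft hm⟩

end Groth.Agent.FlatLift
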