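import Mathlib.RingTheory.Flat.Equalizer
import Mathlib.RingTheory.Bialgebra.Basic
import Mathlib.RingTheory.Nilpotent.Defs
import Mathlib.LinearAlgebra.TensorProduct.Quotient
import Mathlib.LinearAlgebra.TensorProduct.Basis
import Mathlib.RingTheory.Finiteness.Ideal
import Mathlib.RingTheory.Coalgebra.GroupLike

set_option autoImplicit false

/-!
Group-like elements of flat bialgebras lift along nilpotent ideals.
-/

noncomputable section

universe u v w

open scoped TensorProduct

namespace Groth.Agent.FlatLift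

variable {R : Type u} [CommRing R] {I : Ideal R} {P : Type v} [AddCommGroup P] [Module R P]
  {Q : Type w} [AddCommGroup Q] [Module R Q]

variable (I) in
/-- Reduction of a module. -/
def rd (P : Type v) [AddCommGroup P] [Module R P] : P →ₗ[R] (R ⧸ I) ⊗[R] P := TensorProduct.mk R (R ⧸ I) P 1

theorem rd_eq_zero_iff (x : P) : rd I P x = 0 ↔ x ∈ I • (⊤ : Submodule R P) := by
  rw [← (TensorProduct.quotTensorEquivQuotSMul P I).injective.eq_iff, map_zero, rd, TensorProduct.mk_apply,
    ← (Ideal.Quotient.mk I).map_one, TensorProduct.quotTensorEquivQuotSMul_mk_tmul, one_smul,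
    Submodule.Quotient.mk_eq_zero]

theorem rd_eq_iff (x y : P) : rd I P x = rd I P y ↔ x - y ∈ I • (⊤ : Submodule R P) := by
  rw [← rd_eq_zero_iff, map_sub, sub_eq_zero]

theorem rd_congr (f : P →ₗ[R] Q) {x y : P} (h : rd I P x = rd I P y) : rd I Q (f x) = rd I Q (f y) := by
  have e : ∀ z, rd I Q (f z) = f.lTensor (R ⧸ I) (rd I P z) := fun z => rfl
  rw [e, e, h]

theorem mem_smul_of_map (J : Ideal R) (f : P →ₗ[R] Q) (h : ∀ p, f p ∈ I • (⊤ : Submodule R Q)) {x : P}
    (hx : x ∈ J • (⊤ : Submodule R P)) : f x ∈ (J * I) • (⊤ : Submodule R Q) := by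
  refine Submodule.smul_induction_on (p := fun x => f x ∈ (J * I) • (⊤ : Submodule R Q)) hx (fun r hr p _ => ?_)
    fun a b ha hb => by rw [map_add]; exact add_mem ha hb
  rw [map_smul, mul_smul]
  exact Submodule.smul_mem_smul hr (h p)

theorem map_mem (J : Ideal R) (f : P →ₗ[R] Q) {x : P} (hx : x ∈ J • (⊤ : Submodule R P)) :
    f x ∈ J • (⊤ : Submodule R Q) := by
  have h := Submodule.mem_map_of_mem (f := f) hx
  rw [Submodule.map_smul''] at h
  exact Submodule.smul_mono le_rfl le_top h

theorem tmul_mem {J J' : Ideal R} {x : P} {y : Q} (hx : x ∈ J • (⊤ : Submodule R P))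
    (hy : y ∈ J' • (⊤ : Submodule R Q)) : x ⊗ₜ[R] y ∈ (J * J') • (⊤ : Submodule R (P ⊗[R] Q)) := by
  refine Submodule.smul_induction_on (p := fun x => x ⊗ₜ[R] y ∈ (J * J') • (⊤ : Submodule R (P ⊗[R] Q))) hx
    (fun r hr p _ => ?_) fun a b ha hb => by rw [TensorProduct.add_tmul]; exact add_mem ha hb
  rw [← TensorProduct.smul_tmul', mul_smul]
  exact Submodule.smul_mem_smul hr (map_mem J' (TensorProduct.mk R P Q p) hy)

theorem le_of_le_sup_smul (hI : IsNilpotent I) {S T : Submodule R P} (h : T ≤ S ⊔ I • T) : T ≤ S := by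
  obtain ⟨n, hn⟩ := hI
  have : ∀ k : ℕ, T ≤ S ⊔ I ^ k • T := by
    intro k
    induction k with
    | zero => simp
    | succ k ih =>
      refine h.trans (sup_le le_sup_left ?_)
      refine (Submodule.smul_mono le_rfl ih).trans ?_
      rw [Submodule.smul_sup, ← mul_smul, ← pow_succ']
      exact sup_le (Submodule.smul_le_right.trans le_sup_left) le_sup_right
  refine (this n).trans ?_
  rw [hn, Ideal.zero_eq_bot, Submodule.bot_smul, sup_bot_eq]

theorem ker_le_smul_ker {N : Type*} [AddCommGroup N] [Module R N] [Module.Flat R P] (ψ : N →ₗ[R] P)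
    (hψ : Function.Surjective ψ) (h : LinearMap.ker ψ ≤ I • (⊤ : Submodule R N)) :
    LinearMap.ker ψ ≤ I • LinearMap.ker ψ := by
  intro x hx
  have hinj := LinearMap.lTensor_injective_of_exact_of_flat ψ hψ (LinearMap.ker ψ).subtype Subtype.val_injective
    (LinearMap.exact_subtype_ker_map ψ) (R ⧸ I)
  have hK : rd I (LinearMap.ker ψ) ⟨x, hx⟩ = 0 := by
    apply hinj
    rw [map_zero]
    exact (rd_eq_zero_iff x).2 (h hx)
  have hm := Submodule.mem_map_of_mem (f := (LinearMap.ker ψ).subtype) ((rd_eq_zero_iff _).1 hK)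
  rw [Submodule.map_smul'', Submodule.map_top, Submodule.range_subtype] at hm
  exact hm

/-- A family which is a basis modulo a nilpotent ideal is a basis of a flat module. -/
theorem exists_basis [Module.Flat R P] (hI : IsNilpotent I) {M : Type w} (v : M → P)
    (b : Module.Basis M (R ⧸ I) ((R ⧸ I) ⊗[R] P)) (hb : ∀ m, b m = rd I P (v m)) :
    ∃ b' : Module.Basis M R P, ∀ m, b' m = v m := by
  classical
  let ψ := Finsupp.linearCombination R v
  have himg : ∀ c : M →₀ R, rd I P (ψ c) =
      Finsupp.linearCombination (R ⧸ I) b (c.mapRange (Ideal.Quotient.mk I) (map_zero _)) := fun c => by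
    rw [Finsupp.linearCombination_apply, Finsupp.linearCombination_apply,
      Finsupp.sum_mapRange_index (h := fun i (a : R ⧸ I) => a • b i) (fun _ => zero_smul _ _)]
    simp only [Finsupp.sum, map_sum, map_smul]
    refine Finset.sum_congr rfl fun i _ => ?_
    rw [hb]
    rfl
  have hsurj : Function.Surjective ψ := by
    rw [← LinearMap.range_eq_top, eq_top_iff]
    refine le_of_le_sup_smul hI fun x _ => ?_
    obtain ⟨c, hc⟩ : ∃ c, Finsupp.linearCombination (R ⧸ I) b c = rd I P x := ⟨b.repr _, b.linearCombination_repr _⟩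
    obtain ⟨c', rfl⟩ := Finsupp.mapRange_surjective (Ideal.Quotient.mk I) (map_zero _) Ideal.Quotient.mk_surjective c
    refine Submodule.mem_sup.mpr ⟨ψ c', ⟨c', rfl⟩, x - ψ c', ?_, by abel⟩
    rw [← rd_eq_iff, himg, hc]
  have hinj : LinearMap.ker ψ = ⊥ := by
    refine le_bot_iff.1 (le_of_le_sup_smul hI ((ker_le_smul_ker ψ hsurj fun x hx => ?_).trans le_sup_right))
    have h0 : x.mapRange (Ideal.Quotient.mk I) (map_zero _) = 0 := by
      refine b.linearIndependent.finsuppLinearCombination_injective ?_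
      rw [← himg, LinearMap.mem_ker.1 hx, map_zero, map_zero]
    rw [← x.sum_single]
    refine Submodule.sum_mem _ fun i _ => ?_
    rw [← Finsupp.smul_single_one]
    exact Submodule.smul_mem_smul (Ideal.Quotient.eq_zero_iff_mem.1 (DFunLike.congr_fun h0 i)) trivial
  exact ⟨Module.Basis.ofRepr (LinearEquiv.ofBijective ψ ⟨LinearMap.ker_eq_bot.1 hinj, hsurj⟩).symm, fun m => by
    simp [ψ]⟩

end Groth.Agent.FlatLift
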