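import Groth.Agent.FlatLiftLib.Basic

set_option autoImplicit false

/-!
Existence and uniqueness of group-like lifts.
-/

noncomputable section

universe u w

open scoped TensorProduct

namespace Groth.Agent.FlatLift

variable {R : Type u} [CommRing R] {I : Ideal R} {A : Type u} [CommRing A] [Bialgebra R A] {M : Type w}
  [DecidableEq M] (b : Module.Basis M R A) (m : M)

/-- The deformation differential at `x`. -/
def d₁ (x : A) : A →ₗ[R] A ⊗[R] A :=
  Coalgebra.comul - (TensorProduct.mk R A A).flip x - TensorProduct.mk R A A x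

/-- The next differential at `x`. -/
def d₂ (x : A) : A ⊗[R] A →ₗ[R] A ⊗[R] (A ⊗[R] A) :=
  (TensorProduct.assoc R A A A).toLinearMap ∘ₗ
      (Coalgebra.comul.rTensor A + (TensorProduct.mk R (A ⊗[R] A) A).flip x) -
    Coalgebra.comul.lTensor A - TensorProduct.mk R A (A ⊗[R] A) x

/-- The first contracting homotopy. -/
def h₁ : A ⊗[R] A →ₗ[R] A :=
  (b.tensorProduct b).constr R fun p => if p.1 = p.2 then (if p.1 = m then -b m else b p.1) else 0

/-- The second contracting homotopy. -/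
def h₂ : A ⊗[R] (A ⊗[R] A) →ₗ[R] A ⊗[R] A :=
  (b.tensorProduct (b.tensorProduct b)).constr R fun p =>
    if p.1 ≠ m ∧ p.2.1 ≠ m ∧ p.2.2 = m then (if p.1 = p.2.1 then b p.1 ⊗ₜ[R] b m else b p.1 ⊗ₜ[R] b p.2.1)
    else if p.1 = m ∧ p.2.1 = p.2.2 ∧ p.2.1 ≠ m then -(b m ⊗ₜ[R] b p.2.1) else 0

theorem h₁_tmul (a c : M) :
    h₁ b m (b a ⊗ₜ[R] b c) = if a = c then (if a = m then -b m else b a) else 0 := by
  have h := (b.tensorProduct b).constr_basis R
    (fun p => if p.1 = p.2 then (if p.1 = m then -b m else b p.1) else 0) (a, c)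
  rw [Module.Basis.tensorProduct_apply] at h
  exact h

theorem h₂_tmul (a c d : M) : h₂ b m (b a ⊗ₜ[R] (b c ⊗ₜ[R] b d)) =
    if a ≠ m ∧ c ≠ m ∧ d = m then (if a = c then b a ⊗ₜ[R] b m else b a ⊗ₜ[R] b c)
    else if a = m ∧ c = d ∧ c ≠ m then -(b m ⊗ₜ[R] b c) else 0 := by
  have h := (b.tensorProduct (b.tensorProduct b)).constr_basis R
    (fun p => if p.1 ≠ m ∧ p.2.1 ≠ m ∧ p.2.2 = m then (if p.1 = p.2.1 then b p.1 ⊗ₜ[R] b m else b p.1 ⊗ₜ[R] b p.2.1)
      else if p.1 = m ∧ p.2.1 = p.2.2 ∧ p.2.1 ≠ m then -(b m ⊗ₜ[R] b p.2.1) else 0) (a, c, d)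
  rw [Module.Basis.tensorProduct_apply, Module.Basis.tensorProduct_apply] at h
  exact h

/-- The identities of the homotopy on the split model. -/
theorem model₂ (a c : M) :
    h₂ b m (b a ⊗ₜ[R] (b a ⊗ₜ[R] b c) + b a ⊗ₜ[R] (b c ⊗ₜ[R] b m) - b a ⊗ₜ[R] (b c ⊗ₜ[R] b c) - b m ⊗ₜ[R] (b a ⊗ₜ[R] b c)) +
      (if a = c then (if a = m then -(b m ⊗ₜ[R] b m - b m ⊗ₜ[R] b m - b m ⊗ₜ[R] b m) else
        b a ⊗ₜ[R] b a - b a ⊗ₜ[R] b m - b m ⊗ₜ[R] b a) else 0) = b a ⊗ₜ[R] b c := by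
  simp only [map_add, map_sub, h₂_tmul]
  by_cases hac : a = c
  · subst hac
    by_cases ham : a = m
    · subst ham; simp
    · simp [ham]
  · by_cases ham : a = m
    · subst ham; simp [Ne.symm hac, hac]
    · by_cases hcm : c = m
      · subst hcm; simp [ham, Ne.symm hac]
      · simp [hac, ham, hcm, Ne.symm ham, Ne.symm hcm, Ne.symm hac]

theorem model₁ (a : M) : h₁ b m (b a ⊗ₜ[R] b a - b a ⊗ₜ[R] b m - b m ⊗ₜ[R] b a) = b a := by
  simp only [map_sub, h₁_tmul]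
  by_cases ham : a = m
  · subst ham; simp
  · simp [ham, Ne.symm ham]

variable {b m}

theorem rd_tmul_left {x y : A} (h : rd I A x = rd I A y) {Q : Type u} [AddCommGroup Q] [Module R Q] (z : Q) :
    rd I (A ⊗[R] Q) (x ⊗ₜ z) = rd I (A ⊗[R] Q) (y ⊗ₜ z) :=
  rd_congr ((TensorProduct.mk R A Q).flip z) h

theorem rd_tmul_right {x y : A} (h : rd I A x = rd I A y) {Q : Type u} [AddCommGroup Q] [Module R Q] (z : Q) :
    rd I (Q ⊗[R] A) (z ⊗ₜ x) = rd I (Q ⊗[R] A) (z ⊗ₜ y) :=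
  rd_congr (TensorProduct.mk R Q A z) h

theorem rd_d₁ (hu : ∀ a, rd I (A ⊗[R] A) (Coalgebra.comul (b a)) = rd I (A ⊗[R] A) (b a ⊗ₜ[R] b a)) {x : A}
    (hx : rd I A x = rd I A (b m)) (a : M) :
    rd I (A ⊗[R] A) (d₁ x (b a)) = rd I (A ⊗[R] A) (b a ⊗ₜ[R] b a - b a ⊗ₜ[R] b m - b m ⊗ₜ[R] b a) := by
  simp only [d₁, LinearMap.sub_apply, LinearMap.flip_apply, TensorProduct.mk_apply, map_sub]
  rw [hu, rd_tmul_left hx, rd_tmul_right hx]

theorem rd_h₁_d₁ (hu : ∀ a, rd I (A ⊗[R] A) (Coalgebra.comul (b a)) = rd I (A ⊗[R] A) (b a ⊗ₜ[R] b a)) {x : A}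
    (hx : rd I A x = rd I A (b m)) (z : A) : rd I A (h₁ b m (d₁ x z)) = rd I A z := by
  have e : (rd I A).comp ((h₁ b m).comp (d₁ x)) = rd I A := b.ext fun a => by
    rw [LinearMap.comp_apply, LinearMap.comp_apply, rd_congr (h₁ b m) (rd_d₁ hu hx a), model₁]
  exact LinearMap.congr_fun e z

theorem rd_homotopy (hu : ∀ a, rd I (A ⊗[R] A) (Coalgebra.comul (b a)) = rd I (A ⊗[R] A) (b a ⊗ₜ[R] b a)) {x : A}
    (hx : rd I A x = rd I A (b m)) (z : A ⊗[R] A) :
    rd I (A ⊗[R] A) (h₂ b m (d₂ x z) + d₁ x (h₁ b m z)) = rd I (A ⊗[R] A) z := by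
  have e : (rd I (A ⊗[R] A)).comp ((h₂ b m).comp (d₂ x) + (d₁ x).comp (h₁ b m)) = rd I (A ⊗[R] A) :=
    (b.tensorProduct b).ext fun p => by
      obtain ⟨a, c⟩ := p
      rw [Module.Basis.tensorProduct_apply, LinearMap.comp_apply, LinearMap.add_apply, LinearMap.comp_apply,
        LinearMap.comp_apply]
      conv_rhs => rw [← model₂ b m a c]
      rw [map_add, map_add]
      congr 1
      · refine rd_congr (h₂ b m) ?_
        simp only [d₂, LinearMap.sub_apply, LinearMap.add_apply, LinearMap.comp_apply, LinearEquiv.coe_coe,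
          LinearMap.rTensor_tmul, LinearMap.lTensor_tmul, LinearMap.flip_apply, TensorProduct.mk_apply, map_add,
          map_sub]
        have e1 : rd I (A ⊗[R] (A ⊗[R] A)) (TensorProduct.assoc R A A A (Coalgebra.comul (b a) ⊗ₜ[R] b c)) =
            rd I (A ⊗[R] (A ⊗[R] A)) (b a ⊗ₜ[R] (b a ⊗ₜ[R] b c)) :=
          rd_congr ((TensorProduct.assoc R A A A).toLinearMap ∘ₗ (TensorProduct.mk R (A ⊗[R] A) A).flip (b c)) (hu a)
        have e2 : rd I (A ⊗[R] (A ⊗[R] A)) (TensorProduct.assoc R A A A ((b a ⊗ₜ[R] b c) ⊗ₜ x)) =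
            rd I (A ⊗[R] (A ⊗[R] A)) (b a ⊗ₜ[R] (b c ⊗ₜ[R] b m)) :=
          rd_congr ((TensorProduct.assoc R A A A).toLinearMap ∘ₗ TensorProduct.mk R (A ⊗[R] A) A (b a ⊗ₜ[R] b c)) hx
        have e3 : rd I (A ⊗[R] (A ⊗[R] A)) (b a ⊗ₜ Coalgebra.comul (R := R) (b c)) =
            rd I (A ⊗[R] (A ⊗[R] A)) (b a ⊗ₜ[R] (b c ⊗ₜ[R] b c)) :=
          rd_congr (TensorProduct.mk R A (A ⊗[R] A) (b a)) (hu c)
        rw [e1, e2, e3, rd_tmul_left hx]
      · rw [h₁_tmul]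
        split_ifs with hac ham
        · subst hac; subst ham
          rw [map_neg, map_neg, rd_d₁ hu hx, map_neg]
        · exact rd_d₁ hu hx a
        · simp
  exact LinearMap.congr_fun e z

theorem exists_step (hu : ∀ a, rd I (A ⊗[R] A) (Coalgebra.comul (b a)) = rd I (A ⊗[R] A) (b a ⊗ₜ[R] b a)) {k : ℕ}
    {x : A} (hx : rd I A x = rd I A (b m))
    (hD : Coalgebra.comul x - x ⊗ₜ x ∈ I ^ (k + 1) • (⊤ : Submodule R (A ⊗[R] A))) :
    ∃ x' : A, rd I A x' = rd I A (b m) ∧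
      Coalgebra.comul x' - x' ⊗ₜ x' ∈ I ^ (k + 2) • (⊤ : Submodule R (A ⊗[R] A)) := by
  set D := Coalgebra.comul x - x ⊗ₜ[R] x with hDdef
  have hd₂ : d₂ x D = 0 := by
    have hco := Coalgebra.coassoc_apply (R := R) x
    simp only [d₂, hDdef, LinearMap.sub_apply, LinearMap.add_apply, LinearMap.comp_apply, LinearEquiv.coe_coe,
      LinearMap.rTensor_tmul, LinearMap.lTensor_tmul, LinearMap.flip_apply, TensorProduct.mk_apply, map_sub, map_add,
      TensorProduct.sub_tmul, TensorProduct.tmul_sub, TensorProduct.assoc_tmul, hco]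
    abel
  let η := h₁ b m D
  have hη : η ∈ I ^ (k + 1) • (⊤ : Submodule R A) := map_mem _ _ hD
  have hηI : η ∈ I • (⊤ : Submodule R A) :=
    Submodule.smul_mono (Ideal.pow_le_self k.succ_ne_zero) le_rfl hη
  refine ⟨x - η, ?_, ?_⟩
  · rw [map_sub, (rd_eq_zero_iff η).2 hηI, sub_zero, hx]
  · have e : Coalgebra.comul (x - η) - (x - η) ⊗ₜ[R] (x - η) = D - d₁ x η - η ⊗ₜ η := by
      simp only [hDdef, d₁, LinearMap.sub_apply, LinearMap.flip_apply, TensorProduct.mk_apply, map_sub,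
        TensorProduct.sub_tmul, TensorProduct.tmul_sub]
      abel
    rw [e]
    refine sub_mem ?_ (Submodule.smul_mono ?_ le_rfl (tmul_mem hη hη))
    · have h := mem_smul_of_map (I := I) (I ^ (k + 1)) (LinearMap.id - ((h₂ b m).comp (d₂ x) + (d₁ x).comp (h₁ b m)))
        (fun p => by
          rw [← rd_eq_zero_iff, LinearMap.sub_apply, map_sub, LinearMap.id_apply, LinearMap.add_apply,
            LinearMap.comp_apply, LinearMap.comp_apply, rd_homotopy hu hx p, sub_self]) hD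
      rw [pow_succ]
      simpa [hd₂, η] using h
    · rw [← pow_add]
      exact Ideal.pow_le_pow_right (by omega)

theorem exists_groupLike (hI : IsNilpotent I)
    (hu : ∀ a, rd I (A ⊗[R] A) (Coalgebra.comul (b a)) = rd I (A ⊗[R] A) (b a ⊗ₜ[R] b a)) :
    ∃ x : A, rd I A x = rd I A (b m) ∧ Coalgebra.comul x = x ⊗ₜ[R] x := by
  obtain ⟨n, hn⟩ := hI
  have key : ∀ k, ∃ x : A, rd I A x = rd I A (b m) ∧
      Coalgebra.comul x - x ⊗ₜ x ∈ I ^ (k + 1) • (⊤ : Submodule R (A ⊗[R] A)) := by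
    intro k
    induction k with
    | zero => exact ⟨b m, rfl, by rw [pow_one, ← rd_eq_iff]; exact hu m⟩
    | succ k ih =>
      obtain ⟨x, hx, hD⟩ := ih
      exact exists_step hu hx hD
  obtain ⟨x, hx, hD⟩ := key n
  rw [pow_succ, hn, zero_mul, Ideal.zero_eq_bot, Submodule.bot_smul, Submodule.mem_bot, sub_eq_zero] at hD
  exact ⟨x, hx, hD⟩

theorem groupLike_unique (hI : IsNilpotent I)
    (hu : ∀ a, rd I (A ⊗[R] A) (Coalgebra.comul (b a)) = rd I (A ⊗[R] A) (b a ⊗ₜ[R] b a)) {x y : A}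
    (hx : Coalgebra.comul x = x ⊗ₜ[R] x) (hy : Coalgebra.comul y = y ⊗ₜ[R] y) (hxm : rd I A x = rd I A (b m))
    (hym : rd I A y = rd I A (b m)) : x = y := by
  obtain ⟨n, hn⟩ := hI
  have key : ∀ k, y - x ∈ I ^ (k + 1) • (⊤ : Submodule R A) := by
    intro k
    induction k with
    | zero => rw [pow_one, ← rd_eq_iff, hxm, hym]
    | succ k ih =>
      set η := y - x with hη
      have e : d₁ x η = η ⊗ₜ[R] η := by
        simp only [hη, d₁, LinearMap.sub_apply, LinearMap.flip_apply, TensorProduct.mk_apply, map_sub, hx, hy,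
          TensorProduct.sub_tmul, TensorProduct.tmul_sub]
        abel
      have h := mem_smul_of_map (I := I) (I ^ (k + 1)) (LinearMap.id - (h₁ b m).comp (d₁ x)) (fun p => by
        rw [← rd_eq_zero_iff, LinearMap.sub_apply, map_sub, LinearMap.id_apply, LinearMap.comp_apply,
          rd_h₁_d₁ hu hxm p, sub_self]) ih
      rw [← pow_succ, LinearMap.sub_apply, LinearMap.comp_apply, LinearMap.id_apply, e] at h
      have h' : h₁ b m (η ⊗ₜ η) ∈ I ^ (k + 1 + 1) • (⊤ : Submodule R A) :=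
        map_mem _ _ (Submodule.smul_mono (by rw [← pow_add]; exact Ideal.pow_le_pow_right (by omega)) le_rfl
          (tmul_mem ih ih))
      simpa using add_mem h h'
  have h := key n
  rw [pow_succ, hn, zero_mul, Ideal.zero_eq_bot, Submodule.bot_smul, Submodule.mem_bot, sub_eq_zero] at h
  exact h.symm

end Groth.Agent.FlatLift
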