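import Groth.Agent.FlatLiftLib.GroupLike
import Groth.Agent.DiagHopfLib.Connected

set_option autoImplicit false

/-!
Splittings of flat Hopf algebras lift along nilpotent ideals.
-/

noncomputable section

universe u w

open scoped TensorProduct
open Groth.Agent.TorusField Groth.Agent.DiagHopf

namespace Groth.Agent.FlatLift

variable {R : Type u} [CommRing R] {I : Ideal R} {A : Type u} [CommRing A] [HopfAlgebra R A] [Module.Flat R A]
  {M : Type w} [AddCommGroup M]

theorem exists_split (hI : IsNilpotent I) (E : Split R A M (R ⧸ I)) : Nonempty (Split R A M R) := by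
  classical
  choose u hu using fun a => TensorProduct.mk_surjective R A (R ⧸ I) Ideal.Quotient.mk_surjective (E.e a)
  have hu' : ∀ a, E.e a = rd I A (u a) := fun a => (hu a).symm
  obtain ⟨b, hb⟩ := exists_basis hI u E.e hu'
  have hbe : ∀ a, rd I A (b a) = E.e a := fun a => by rw [hb, hu']
  have hcom : ∀ a, rd I (A ⊗[R] A) (Coalgebra.comul (b a)) = rd I (A ⊗[R] A) (b a ⊗ₜ b a) := fun a => by
    have h := (E.gl a).1
    rw [← hbe] at h
    simp [rd, D, J₁, J₂] at h
    exact h
  choose x hx hx' using fun a => exists_groupLike (b := b) (m := a) hI hcom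
  obtain ⟨b', hb'⟩ := exists_basis hI x E.e fun a => (hx a).symm ▸ (hbe a).symm
  have hε : ∀ a, Coalgebra.counit (R := R) (x a) = 1 := by
    intro a
    have h := Coalgebra.rTensor_counit_comul (R := R) (x a)
    rw [hx', LinearMap.rTensor_tmul] at h
    have h2 := congrArg (TensorProduct.lid R A) h
    rw [TensorProduct.lid_tmul, TensorProduct.lid_tmul, one_smul] at h2
    have h3 := congrArg (fun z => b'.repr z a) h2
    simpa [← hb'] using h3
  have hg : ∀ a, IsGroupLikeElem R (x a) := fun a => ⟨hε a, hx' a⟩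
  have h0 : x 0 = 1 := by
    refine groupLike_unique (b := b) (m := 0) hI hcom (hx' 0) (Bialgebra.comul_one.trans ?_) (hx 0) ?_
    · rfl
    · rw [hbe, E.e_zero]; rfl
  have hadd : ∀ a c, x (a + c) = x a * x c := fun a c => by
    refine groupLike_unique (b := b) (m := a + c) hI hcom (hx' _) ((hg a).mul (hg c)).comul_eq_tmul_self (hx _) ?_
    rw [hbe, E.e_add, ← hbe, ← hbe, ← hx a, ← hx c]
    simp [rd]
  let c := b'.map (Algebra.TensorProduct.lid R A).symm.toLinearEquiv
  have hc : ∀ a, c a = (1 : R) ⊗ₜ[R] x a := fun a => by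
    rw [Module.Basis.map_apply, hb']
    rfl
  exact ⟨⟨c, by rw [hc, h0]; rfl, fun a d => by
    rw [hc, hc, hc, hadd, Algebra.TensorProduct.tmul_mul_tmul, one_mul], fun a => by
    rw [hc]; exact isGL_one_tmul (hg a) R⟩⟩

theorem exists_split_lift (hI : IsNilpotent I) {T C : Type u} [CommRing T] [Algebra R T] [CommRing C] [Algebra R C]
    (φ : T →ₐ[R] C) (hφ : Function.Surjective φ) (hker : RingHom.ker φ = I.map (algebraMap R T))
    (E : Split R A M C) : Nonempty (Split R A M T) := by
  let J := I.map (algebraMap R T)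
  let ε : C ≃ₐ[R] T ⧸ J :=
    (Ideal.quotientKerAlgEquivOfSurjective hφ).symm.trans (Ideal.quotientEquivAlgOfEq R hker)
  obtain ⟨E₁, -⟩ := exists_split_push E ε.toAlgHom
  obtain ⟨E₂⟩ := exists_split_transfer' (R' := T) E₁
  have hJ : IsNilpotent J := by
    obtain ⟨n, hn⟩ := hI
    exact ⟨n, by rw [show J ^ n = (I ^ n).map (algebraMap R T) from (Ideal.map_pow _ _ _).symm, hn, Ideal.zero_eq_bot,
      Ideal.map_bot]; rfl⟩
  obtain ⟨E₃⟩ := exists_split hJ E₂
  exact exists_split_transfer E₃

end Groth.Agent.FlatLift
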